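import Mathlib

/-!
Sections `N_G(Y)/Y` of a group `G`, with images `bar Y H` of subgroups `H` of `G`.
-/

set_option autoImplicit false

namespace Cfsg.Agent.Lib.Helper59.BG37

universe u

open Subgroup

variable {G : Type u} [Group G]

/-- `N_G(Y)/Y`. -/
abbrev NQ (Y : Subgroup G) : Type u :=
  ↥(normalizer (Y : Set G)) ⧸ (Y.subgroupOf (normalizer (Y : Set G)))

/-- the projection `N_G(Y) → N_G(Y)/Y`. -/
abbrev prj (Y : Subgroup G) : ↥(normalizer (Y : Set G)) →* NQ Y := QuotientGroup.mk' _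

/-- image of (the part in `N_G(Y)` of) a subgroup in `N_G(Y)/Y`. -/
def bar (Y H : Subgroup G) : Subgroup (NQ Y) :=
  (H.subgroupOf (normalizer (Y : Set G))).map (prj Y)

theorem mem_bar {Y H : Subgroup G} {x : NQ Y} :
    x ∈ bar Y H ↔ ∃ h, ∃ (hn : h ∈ normalizer (Y : Set G)), h ∈ H ∧ prj Y ⟨h, hn⟩ = x := by
  constructor
  · rintro ⟨⟨h, hn⟩, hh, rfl⟩
    exact ⟨h, hn, hh, rfl⟩
  · rintro ⟨h, hn, hh, rfl⟩
    exact ⟨⟨h, hn⟩, hh, rfl⟩

theorem mem_bar_of_mem {Y H : Subgroup G} {h : G} (hn : h ∈ normalizer (Y : Set G))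
    (hh : h ∈ H) : prj Y ⟨h, hn⟩ ∈ bar Y H := mem_bar.mpr ⟨h, hn, hh, rfl⟩

theorem prj_eq_iff {Y : Subgroup G} {a b : G} (ha : a ∈ normalizer (Y : Set G))
    (hb : b ∈ normalizer (Y : Set G)) :
    prj Y ⟨a, ha⟩ = prj Y ⟨b, hb⟩ ↔ a⁻¹ * b ∈ Y := by
  rw [QuotientGroup.mk'_apply, QuotientGroup.mk'_apply, QuotientGroup.eq]
  rfl

theorem prj_eq_one_iff {Y : Subgroup G} {a : G} (ha : a ∈ normalizer (Y : Set G)) :
    prj Y ⟨a, ha⟩ = 1 ↔ a ∈ Y := by
  rw [QuotientGroup.mk'_apply, QuotientGroup.eq_one_iff]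
  rfl

theorem bar_mono {Y H₁ H₂ : Subgroup G} (h : H₁ ≤ H₂) : bar Y H₁ ≤ bar Y H₂ := by
  intro x hx
  obtain ⟨h', hn, hh, rfl⟩ := mem_bar.mp hx
  exact mem_bar_of_mem hn (h hh)

theorem bar_eq_bot {Y H : Subgroup G} (h : H ≤ Y) : bar Y H = ⊥ := by
  rw [eq_bot_iff]
  intro x hx
  obtain ⟨h', hn, hh, rfl⟩ := mem_bar.mp hx
  exact Subgroup.mem_bot.mpr ((prj_eq_one_iff hn).mpr (h hh))

theorem bar_sup {Y A B : Subgroup G} (hA : A ≤ normalizer (Y : Set G))
    (hB : B ≤ normalizer (Y : Set G)) : bar Y (A ⊔ B) = bar Y A ⊔ bar Y B := by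
  unfold bar
  rw [Subgroup.subgroupOf_sup hA hB, Subgroup.map_sup]

theorem prj_conj {Y : Subgroup G} {a b : G} (ha : a ∈ normalizer (Y : Set G))
    (hb : b ∈ normalizer (Y : Set G)) :
    prj Y ⟨a, ha⟩ * prj Y ⟨b, hb⟩ * (prj Y ⟨a, ha⟩)⁻¹ =
      prj Y ⟨a * b * a⁻¹, mul_mem (mul_mem ha hb) (inv_mem ha)⟩ := by
  rw [← map_inv, ← map_mul, ← map_mul]
  rfl

theorem bar_le_normalizer {Y A B : Subgroup G} (hAB : A ≤ normalizer (B : Set G)) :
    bar Y A ≤ normalizer (bar Y B : Set (NQ Y)) := by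
  rw [Subgroup.le_normalizer_iff]
  intro x hx y hy
  obtain ⟨a, han, ha, rfl⟩ := mem_bar.mp hx
  obtain ⟨b, hbn, hb, rfl⟩ := mem_bar.mp hy
  rw [prj_conj]
  exact mem_bar_of_mem _ ((Subgroup.le_normalizer_iff.mp hAB) a ha b hb)

theorem card_bar_eq_relIndex {Y H : Subgroup G} (hHN : H ≤ normalizer (Y : Set G)) :
    Nat.card (bar Y H) = Y.relIndex H := by
  have h := Subgroup.relIndex_ker (prj Y) (K := H.subgroupOf (normalizer (Y : Set G)))
  rw [QuotientGroup.ker_mk', Subgroup.relIndex_subgroupOf hHN] at h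
  exact h.symm

theorem card_bar_mul {Y H : Subgroup G} (hYH : Y ≤ H) (hHN : H ≤ normalizer (Y : Set G)) :
    Nat.card (bar Y H) * Nat.card Y = Nat.card H := by
  rw [card_bar_eq_relIndex hHN]
  have h1 : Nat.card (Y.subgroupOf H) = Nat.card Y :=
    Nat.card_congr (Subgroup.subgroupOfEquivOfLe hYH).toEquiv
  have h2 := Subgroup.card_mul_index (Y.subgroupOf H)
  rw [h1] at h2
  rw [Subgroup.relIndex, mul_comm]
  exact h2

theorem card_bar_dvd {Y H : Subgroup G} (hHN : H ≤ normalizer (Y : Set G)) :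
    Nat.card (bar Y H) ∣ Nat.card H := by
  rw [card_bar_eq_relIndex hHN]
  exact Subgroup.relIndex_dvd_card _ _

theorem card_bar_of_inf_eq_bot {Y H : Subgroup G} (hHN : H ≤ normalizer (Y : Set G))
    (hHY : H ⊓ Y = ⊥) : Nat.card (bar Y H) = Nat.card H := by
  rw [card_bar_eq_relIndex hHN, ← Subgroup.inf_relIndex_left, hHY,
    Subgroup.relIndex_bot_left]

theorem isSolvable_bar {Y H : Subgroup G} (hsolv : Group.IsSolvable ↥H) :
    Group.IsSolvable ↥(bar Y H) := by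
  have h1 : Group.IsSolvable ↥(H.subgroupOf (normalizer (Y : Set G))) :=
    Group.isSolvable_of_isSolvable_injective
      (f := (MonoidHom.codRestrict ((Subgroup.subtype (normalizer (Y : Set G))).comp
        (Subgroup.subtype (H.subgroupOf (normalizer (Y : Set G))))) H
        (fun x => Subgroup.mem_subgroupOf.mp x.2) : _ →* ↥H)) (by
        intro a b hab
        apply Subtype.ext
        apply Subtype.ext
        exact congrArg (fun z : ↥H => (z : G)) hab)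
  exact Group.isSolvable_of_surjective
    ((prj Y).subgroupMap_surjective (H.subgroupOf (normalizer (Y : Set G))))

theorem isPGroup_bar {Y H : Subgroup G} {p : ℕ} (hH : IsPGroup p H) : IsPGroup p (bar Y H) := by
  intro x
  obtain ⟨h, hn, hh, hx⟩ := mem_bar.mp x.2
  obtain ⟨k, hk⟩ := hH ⟨h, hh⟩
  refine ⟨k, ?_⟩
  apply Subtype.ext
  have hk' : h ^ p ^ k = 1 := by
    have := congrArg (fun z : ↥H => (z : G)) hk
    simpa using this
  show (x : NQ Y) ^ p ^ k = 1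
  rw [← hx, ← map_pow]
  have : (⟨h, hn⟩ : ↥(normalizer (Y : Set G))) ^ p ^ k = 1 := by
    apply Subtype.ext
    simpa using hk'
  rw [this, map_one]

end Cfsg.Agent.Lib.Helper59.BG37
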