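import Mathlib
import Cfsg.Agent.Lib.Helper6.BG.S1437Defs
import Cfsg.Agent.S1446
import Cfsg.Agent.Lib.Helper91.Coprime
import Cfsg.Agent.Lib.Helper61.CoprimeAb
import Cfsg.Agent.Lib.Helper48.Coprime
import Cfsg.Agent.Lib.Helper59.BG37.Sect

/-!
Package PK5 of the S1437 project (helper6): "Lemma L", i.e. the landed S1446 applied in the
section `N_G(Y)/Y`.
-/

set_option autoImplicit false

namespace Cfsg.Agent.Lib.Helper59.BG37

universe u

open Subgroup
open scoped commutatorElement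

theorem pk5 : Cfsg.Agent.Lib.Helper6.BG37.PK5.{u} := by
  intro G _ _ q hq T D K Y hT hDT hKT hKD hsolv hodd hcop hK1 hfrob hpr hCq hTD hYT hTT hDY hKY
  classical
  have : Fact q.Prime := ⟨hq⟩
  -- basic facts
  have hYT' : Y ≤ T := hYT.le
  have hTY : T ≤ normalizer (Y : Set G) := by
    rw [Subgroup.le_normalizer_iff]
    intro t ht y hy
    have h1 : t * y * t⁻¹ * y⁻¹ ∈ ⁅T, T⁆ := Subgroup.commutator_mem_commutator ht (hYT' hy)
    have h2 : t * y * t⁻¹ = (t * y * t⁻¹ * y⁻¹) * y := by group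
    rw [h2]
    exact Y.mul_mem (hTT h1) hy
  have hHY : D ⊔ K ≤ normalizer (Y : Set G) := sup_le hDY hKY
  have hD_le : D ≤ D ⊔ K := le_sup_left
  have hK_le : K ≤ D ⊔ K := le_sup_right
  -- `T ∩ DK = 1`
  have hTH : ∀ x, x ∈ T → x ∈ D ⊔ K → x = 1 := by
    intro x hxT hxH
    have h1 : orderOf x ∣ Nat.card ↥(D ⊔ K) := by
      have := orderOf_dvd_natCard (⟨x, hxH⟩ : ↥(D ⊔ K))
      rwa [Subgroup.orderOf_mk] at this
    obtain ⟨k, hk⟩ := hT ⟨x, hxT⟩
    have h2 : orderOf x ∣ q ^ k := by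
      apply orderOf_dvd_of_pow_eq_one
      have := congrArg (fun z : ↥T => (z : G)) hk
      simpa using this
    have h3 : (Nat.card ↥(D ⊔ K)).Coprime (q ^ k) := Nat.Coprime.pow_right k hcop
    have h4 : orderOf x = 1 := Nat.eq_one_of_dvd_coprimes h3 h1 h2
    exact orderOf_eq_one_iff.mp h4
  have hYH : ∀ x, x ∈ Y → x ∈ D ⊔ K → x = 1 := fun x hx hx' => hTH x (hYT' hx) hx'
  have hT1 : T ≠ ⊥ := by
    intro h
    rw [h] at hYT
    exact not_lt_bot hYT
  have hD1 : D ≠ ⊥ := by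
    intro h
    apply hT1
    rw [← hTD, h]
    exact Subgroup.commutator_bot_right T
  -- the section
  set TT := bar Y T with hTT_def
  set DD := bar Y D with hDD_def
  set KK := bar Y K with hKK_def
  have hDn : D ≤ normalizer (Y : Set G) := hDY
  have hKn : K ≤ normalizer (Y : Set G) := hKY
  -- injectivity on `D ⊔ K`
  have hinj : ∀ a b (ha : a ∈ D ⊔ K) (hb : b ∈ D ⊔ K),
      prj Y ⟨a, hHY ha⟩ = prj Y ⟨b, hHY hb⟩ → a = b := by
    intro a b ha hb hab
    have h1 := (prj_eq_iff (hHY ha) (hHY hb)).mp hab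
    have h2 := hYH _ h1 (mul_mem (inv_mem ha) hb)
    exact inv_mul_eq_one.mp h2
  have hDD1 : DD ≠ ⊥ := by
    intro h
    apply hD1
    rw [eq_bot_iff]
    intro d hd
    have h1 : prj Y ⟨d, hDn hd⟩ ∈ DD := mem_bar_of_mem _ hd
    rw [h] at h1
    have h2 := (prj_eq_one_iff (hDn hd)).mp (Subgroup.mem_bot.mp h1)
    exact Subgroup.mem_bot.mpr (hYH d h2 (hD_le hd))
  have hKK1 : KK ≠ ⊥ := by
    intro h
    apply hK1
    rw [eq_bot_iff]
    intro d hd
    have h1 : prj Y ⟨d, hKn hd⟩ ∈ KK := mem_bar_of_mem _ hd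
    rw [h] at h1
    have h2 := (prj_eq_one_iff (hKn hd)).mp (Subgroup.mem_bot.mp h1)
    exact Subgroup.mem_bot.mpr (hYH d h2 (hK_le hd))
  have hk_ne : ∀ k (hk : k ∈ K), prj Y ⟨k, hKn hk⟩ ≠ 1 → k ≠ 1 := by
    intro k hk h hk1
    apply h
    subst hk1
    exact (prj_eq_one_iff _).mpr Y.one_mem
  have hDK_inf : DD ⊓ KK = ⊥ := by
    rw [eq_bot_iff]
    intro x hx
    obtain ⟨d, hdn, hd, hdx⟩ := mem_bar.mp hx.1
    obtain ⟨k, hkn, hk, hkx⟩ := mem_bar.mp hx.2
    have h1 : d = k := hinj d k (hD_le hd) (hK_le hk) (hdx.trans hkx.symm)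
    subst h1
    by_cases hd1 : d = 1
    · subst hd1
      rw [← hdx]
      exact Subgroup.mem_bot.mpr ((prj_eq_one_iff _).mpr Y.one_mem)
    · have h2 := hfrob d hk hd1
      have h3 : d ∈ D ⊓ centralizer ({d} : Set G) :=
        ⟨hd, Subgroup.mem_centralizer_singleton_iff.mpr rfl⟩
      rw [h2] at h3
      exact absurd (Subgroup.mem_bot.mp h3) hd1
  have hKKDD : KK ≤ normalizer (DD : Set (NQ Y)) := bar_le_normalizer hKD
  have hfrob' : ∀ r ∈ KK, r ≠ 1 → DD ⊓ centralizer ({r} : Set (NQ Y)) = ⊥ := by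
    intro r hr hr1
    obtain ⟨k, hkn, hk, rfl⟩ := mem_bar.mp hr
    have hk1 : k ≠ 1 := hk_ne k hk hr1
    rw [eq_bot_iff]
    intro y hy
    obtain ⟨d, hdn, hd, rfl⟩ := mem_bar.mp hy.1
    have hc := Subgroup.mem_centralizer_singleton_iff.mp hy.2
    -- hc : prj d * prj k = prj k * prj d
    have h1 : prj Y ⟨d * k, mul_mem hdn hkn⟩ = prj Y ⟨k * d, mul_mem hkn hdn⟩ := by
      have e1 : (⟨d * k, mul_mem hdn hkn⟩ : ↥(normalizer (Y : Set G))) = ⟨d, hdn⟩ * ⟨k, hkn⟩ := rfl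
      have e2 : (⟨k * d, mul_mem hkn hdn⟩ : ↥(normalizer (Y : Set G))) = ⟨k, hkn⟩ * ⟨d, hdn⟩ := rfl
      rw [e1, e2, map_mul, map_mul]
      exact hc
    have h2 : d * k = k * d :=
      hinj _ _ (mul_mem (hD_le hd) (hK_le hk)) (mul_mem (hK_le hk) (hD_le hd)) h1
    have h3 : d ∈ D ⊓ centralizer ({k} : Set G) :=
      ⟨hd, Subgroup.mem_centralizer_singleton_iff.mpr h2⟩
    rw [hfrob k hk hk1] at h3
    have h4 : d = 1 := Subgroup.mem_bot.mp h3
    subst h4
    exact Subgroup.mem_bot.mpr ((prj_eq_one_iff _).mpr Y.one_mem)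
  have hsup : DD ⊔ KK = bar Y (D ⊔ K) := (bar_sup hDn hKn).symm
  have hsolv' : Group.IsSolvable ↥(DD ⊔ KK) := by
    rw [hsup]
    exact isSolvable_bar hsolv
  have hcard_sup : Nat.card ↥(DD ⊔ KK) ∣ Nat.card ↥(D ⊔ K) := by
    rw [hsup]
    exact card_bar_dvd hHY
  have hodd' : Odd (Nat.card ↥(DD ⊔ KK)) := Odd.of_dvd_nat hodd hcard_sup
  have hTT1 : TT ≠ ⊥ := by
    intro h
    obtain ⟨t, ht, htY⟩ := SetLike.exists_of_lt hYT
    have h1 : prj Y ⟨t, hTY ht⟩ ∈ TT := mem_bar_of_mem _ ht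
    rw [h] at h1
    exact htY ((prj_eq_one_iff (hTY ht)).mp (Subgroup.mem_bot.mp h1))
  have hTTp : IsPGroup q TT := isPGroup_bar hT
  have hTTn : Group.IsNilpotent ↥TT := hTTp.isNilpotent
  have hDDTT : DD ≤ normalizer (TT : Set (NQ Y)) := bar_le_normalizer hDT
  have hKKTT : KK ≤ normalizer (TT : Set (NQ Y)) := bar_le_normalizer hKT
  obtain ⟨m, hm⟩ := (IsPGroup.iff_card.mp hTTp)
  have hcop' : (Nat.card ↥(DD ⊔ KK)).Coprime (Nat.card TT) := by
    rw [hm]
    exact Nat.Coprime.pow_right m (Nat.Coprime.coprime_dvd_left hcard_sup hcop)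
  -- `TT` is abelian
  have hTTab : ⁅TT, TT⁆ = ⊥ := by
    rw [eq_bot_iff, Subgroup.commutator_le]
    intro a ha b hb
    obtain ⟨s, hsn, hs, rfl⟩ := mem_bar.mp ha
    obtain ⟨t, htn, ht, rfl⟩ := mem_bar.mp hb
    rw [← map_commutatorElement]
    refine Subgroup.mem_bot.mpr ((prj_eq_one_iff _).mpr ?_)
    exact hTT (Subgroup.commutator_mem_commutator hs ht)
  have hTTDD : ⁅TT, DD⁆ = TT := by
    apply le_antisymm
    · exact Cfsg.Agent.Lib.Helper48.commutator_le_of_le_normalizer TT DD hDDTT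
    · -- `T = [T, D]` maps into `[TT, DD]`
      have h1 : ⁅T, D⁆ ≤ ((⁅TT, DD⁆).comap (prj Y)).map (Subgroup.subtype _) := by
        rw [Subgroup.commutator_le]
        intro t ht d hd
        refine ⟨⁅(⟨t, hTY ht⟩ : ↥(normalizer (Y : Set G))), ⟨d, hDn hd⟩⁆, ?_, rfl⟩
        show prj Y _ ∈ ⁅TT, DD⁆
        rw [map_commutatorElement]
        exact Subgroup.commutator_mem_commutator (mem_bar_of_mem _ ht) (mem_bar_of_mem _ hd)
      rw [hTD] at h1
      intro x hx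
      obtain ⟨t, htn, ht, rfl⟩ := mem_bar.mp hx
      obtain ⟨y, hy, hyt⟩ := h1 ht
      have : y = ⟨t, htn⟩ := Subtype.ext hyt
      rw [← this]
      exact hy
  have hCD : TT ⊓ centralizer (DD : Set (NQ Y)) = ⊥ := by
    have h1 := Cfsg.Agent.Lib.Helper61.inf_centralizer_le_commutator_of_commutator_eq
      TT DD hDDTT
      (Nat.Coprime.coprime_dvd_left (Subgroup.card_dvd_of_le (le_sup_left : DD ≤ DD ⊔ KK)) hcop')
      hTTDD
    rw [hTTab] at h1
    exact eq_bot_iff.mpr h1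
  -- lifting fixed points
  have hlift : ∀ k (hk : k ∈ K), k ≠ 1 → ∀ y ∈ TT ⊓ centralizer ({prj Y ⟨k, hKn hk⟩} : Set (NQ Y)),
      y ∈ bar Y (T ⊓ centralizer (K : Set G)) := by
    intro k hk hk1 y hy
    obtain ⟨t, htn, ht, rfl⟩ := mem_bar.mp hy.1
    have hc := Subgroup.mem_centralizer_singleton_iff.mp hy.2
    have hzn : Subgroup.zpowers k ≤ normalizer (Y : Set G) := by
      rw [Subgroup.zpowers_le]; exact hKn hk
    have hzK : Subgroup.zpowers k ≤ K := by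
      rw [Subgroup.zpowers_le]; exact hk
    have hinv : ∀ a ∈ Subgroup.zpowers k, a⁻¹ * t⁻¹ * a * t ∈ Y := by
      intro a ha
      have han : a ∈ normalizer (Y : Set G) := hzn ha
      -- prj a commutes with prj t
      have hca : prj Y ⟨a, han⟩ * prj Y ⟨t, htn⟩ = prj Y ⟨t, htn⟩ * prj Y ⟨a, han⟩ := by
        obtain ⟨n, rfl⟩ := Subgroup.mem_zpowers_iff.mp ha
        have e : (⟨k ^ n, han⟩ : ↥(normalizer (Y : Set G))) = ⟨k, hKn hk⟩ ^ n := by
          apply Subtype.ext; simp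
        rw [e, map_zpow]
        have hcomm : Commute (prj Y ⟨k, hKn hk⟩) (prj Y ⟨t, htn⟩) := hc.symm
        exact (hcomm.zpow_left n).eq
      have h1 : prj Y ⟨a⁻¹ * t⁻¹ * a * t, mul_mem (mul_mem (mul_mem (inv_mem han) (inv_mem htn)) han) htn⟩ = 1 := by
        have e : (⟨a⁻¹ * t⁻¹ * a * t, mul_mem (mul_mem (mul_mem (inv_mem han) (inv_mem htn)) han) htn⟩ :
            ↥(normalizer (Y : Set G))) = ⟨a, han⟩⁻¹ * ⟨t, htn⟩⁻¹ * ⟨a, han⟩ * ⟨t, htn⟩ := rfl
        rw [e, map_mul, map_mul, map_mul, map_inv, map_inv, mul_assoc, hca]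
        group
      exact (prj_eq_one_iff _).mp h1
    have hzcop : (Nat.card ↥(Subgroup.zpowers k)).Coprime (Nat.card T) := by
      obtain ⟨n, hn⟩ := (IsPGroup.iff_card.mp hT)
      rw [hn]
      apply Nat.Coprime.pow_right
      exact Nat.Coprime.coprime_dvd_left
        (Subgroup.card_dvd_of_le (hzK.trans hK_le)) hcop
    obtain ⟨d, hdY, hdc⟩ := Cfsg.Agent.Lib.Helper91.exists_mem_centralizer_coset
      (Subgroup.zpowers k) T (hzK.trans hKT) hzcop (Or.inl inferInstance) Y hYT'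
      hzn t ht hinv
    have htd : t * d ∈ T ⊓ centralizer ({k} : Set G) := by
      refine ⟨mul_mem ht (hYT' hdY), ?_⟩
      show t * d ∈ centralizer ({k} : Set G)
      rw [Subgroup.mem_centralizer_singleton_iff]
      exact (Subgroup.mem_centralizer_iff.mp hdc k (Subgroup.mem_zpowers k)).symm
    rw [hpr k hk hk1] at htd
    have hdn : d ∈ normalizer (Y : Set G) := hTY (hYT' hdY)
    have e : prj Y ⟨t, htn⟩ = prj Y ⟨t * d, mul_mem htn hdn⟩ := by
      rw [prj_eq_iff]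
      have : t⁻¹ * (t * d) = d := by group
      rw [this]
      exact hdY
    rw [e]
    exact mem_bar_of_mem _ htd
  have hbarC_le : bar Y (T ⊓ centralizer (K : Set G)) ≤ TT ⊓ centralizer (KK : Set (NQ Y)) := by
    intro y hy
    obtain ⟨c, hcn, hc, rfl⟩ := mem_bar.mp hy
    refine ⟨mem_bar_of_mem _ hc.1, ?_⟩
    show prj Y ⟨c, hcn⟩ ∈ centralizer (KK : Set (NQ Y))
    rw [Subgroup.mem_centralizer_iff]
    intro z hz
    obtain ⟨k, hkn, hk, rfl⟩ := mem_bar.mp hz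
    rw [← map_mul, ← map_mul]
    congr 1
    apply Subtype.ext
    exact Subgroup.mem_centralizer_iff.mp hc.2 k hk
  have hpr' : ∀ x ∈ KK, x ≠ 1 →
      TT ⊓ centralizer ({x} : Set (NQ Y)) = TT ⊓ centralizer (KK : Set (NQ Y)) := by
    intro x hx hx1
    obtain ⟨k, hkn, hk, rfl⟩ := mem_bar.mp hx
    have hk1 : k ≠ 1 := hk_ne k hk hx1
    apply le_antisymm
    · intro y hy
      exact hbarC_le (hlift k hk hk1 y hy)
    · exact inf_le_inf_left _ (Subgroup.centralizer_le (Set.singleton_subset_iff.mpr hx))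
  obtain ⟨hprime, hcardT, -⟩ := Cfsg.Agent.S1446.result DD KK TT hDD1 hKK1 hDK_inf hKKDD hfrob'
    hsolv' hodd' hTT1 hTTn hDDTT hKKTT hcop' hCD hpr'
  -- cardinalities
  have hKKcard : Nat.card KK = Nat.card K := by
    apply card_bar_of_inf_eq_bot hKn
    rw [eq_bot_iff]
    intro x hx
    exact Subgroup.mem_bot.mpr (hYH x hx.2 (hK_le hx.1))
  have hCeq : TT ⊓ centralizer (KK : Set (NQ Y)) = bar Y (T ⊓ centralizer (K : Set G)) := by
    apply le_antisymm
    · obtain ⟨k, hk, hk1⟩ : ∃ k : G, k ∈ K ∧ k ≠ 1 := by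
        obtain ⟨k, hk⟩ := Subgroup.ne_bot_iff_exists_ne_one.mp hK1
        exact ⟨(k : G), k.2, fun h => hk (Subtype.ext h)⟩
      intro y hy
      apply hlift k hk hk1 y
      refine ⟨hy.1, ?_⟩
      exact Subgroup.centralizer_le (Set.singleton_subset_iff.mpr (mem_bar_of_mem (hKn hk) hk)) hy.2
    · exact hbarC_le
  have hCn : T ⊓ centralizer (K : Set G) ≤ normalizer (Y : Set G) := inf_le_left.trans hTY
  have hCdvd : Nat.card ↥(TT ⊓ centralizer (KK : Set (NQ Y))) ∣ q := by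
    rw [hCeq]
    exact (card_bar_dvd hCn).trans hCq
  have hTTcard : Nat.card TT * Nat.card Y = Nat.card T := card_bar_mul hYT' hTY
  have hTTne1 : Nat.card TT ≠ 1 := by
    intro h
    exact hTT1 (Subgroup.card_eq_one.mp h)
  have hCcard : Nat.card ↥(TT ⊓ centralizer (KK : Set (NQ Y))) = q := by
    rcases (Nat.dvd_prime hq).mp hCdvd with h | h
    · exfalso
      rw [h, one_pow] at hcardT
      exact hTTne1 hcardT
    · exact h
  rw [hKKcard] at hprime
  refine ⟨hprime, ?_, ?_⟩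
  · rw [← hTTcard, hcardT, hCcard, hKKcard, mul_comm]
  · intro hle
    have h1 : bar Y (T ⊓ centralizer (K : Set G)) = ⊥ := bar_eq_bot hle
    rw [← hCeq] at h1
    rw [h1] at hCcard
    have : Nat.card (⊥ : Subgroup (NQ Y)) = 1 := Subgroup.card_bot
    rw [this] at hCcard
    exact hq.one_lt.ne hCcard

end Cfsg.Agent.Lib.Helper59.BG37
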